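import Mathlib
import Cfsg.Agent.Lib.Helper55.OOG.Defs

/-!
# OOG (S2413): package [EXIST] (helper47)

Every Siegel transformation `ρ_{u,w}` (`u` singular, `w ⊥ u`) exists as an isometry.
-/

set_option autoImplicit false
open scoped Matrix

namespace Cfsg.Agent.Lib.Helper47.OOG

open Cfsg.Agent.Lib.Helper55.OOG

universe u

section

variable {m : ℕ} {F : Type u} [Field F]

/-- the linear map `v ↦ v + B(v,u) w - (B(v,w) + Q(w) B(v,u)) u` -/
def siegLin (u w : Vec m F) : Vec m F →ₗ[F] Vec m F where
  toFun v := v + B v u • w - (B v w + QF m F w * B v u) • u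
  map_add' := by
    intro a b
    rw [B_add_left, B_add_left]
    module
  map_smul' := by
    intro c a
    simp only [RingHom.id_apply]
    rw [B_smul_left, B_smul_left]
    module

theorem siegLin_apply (u w v : Vec m F) :
    siegLin u w v = v + B v u • w - (B v w + QF m F w * B v u) • u := rfl

theorem siegLin_comp (u w : Vec m F) (hu : QF m F u = 0) (huw : B u w = 0) :
    siegLin u w ∘ₗ siegLin u (-w) = LinearMap.id := by
  refine LinearMap.ext fun v => ?_
  have hwu : B w u = 0 := by rw [B_comm]; exact huw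
  have huu : B u u = 0 := by rw [B_self, hu]; ring
  have hww : B w w = 2 * QF m F w := B_self w
  rw [LinearMap.comp_apply, LinearMap.id_apply, siegLin_apply, siegLin_apply]
  simp only [B_add_left, B_sub_left, B_smul_left, B_neg_left, B_neg_right, Q_neg, hwu, huu, hww,
    huw]
  module

theorem siegLin_isom (u w : Vec m F) (hu : QF m F u = 0) (huw : B u w = 0) (v : Vec m F) :
    QF m F (siegLin u w v) = QF m F v := by
  have hwu : B w u = 0 := by rw [B_comm]; exact huw
  rw [siegLin_apply, sub_eq_add_neg, Q_add, Q_add, Q_neg, Q_smul, Q_smul, hu]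
  simp only [B_add_left, B_neg_right, B_smul_left, B_smul_right, hwu]
  ring

end

/-- [EXIST] -/
theorem pkgExist : PkgExist.{u} := by
  intro m F _ u w hu huw
  have huw' : B u (-w) = 0 := by rw [B_neg_right, huw, neg_zero]
  have h1 : LinearMap.toMatrix' (siegLin u w) * LinearMap.toMatrix' (siegLin u (-w)) = 1 := by
    rw [← LinearMap.toMatrix'_comp, siegLin_comp u w hu huw, LinearMap.toMatrix'_id]
  have h2 : LinearMap.toMatrix' (siegLin u (-w)) * LinearMap.toMatrix' (siegLin u w) = 1 := by
    have h := siegLin_comp u (-w) hu huw'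
    rw [neg_neg] at h
    rw [← LinearMap.toMatrix'_comp, h, LinearMap.toMatrix'_id]
  let g : Matrix.GeneralLinearGroup (Unit ⊕ (Fin m ⊕ Fin m)) F :=
    ⟨LinearMap.toMatrix' (siegLin u w), LinearMap.toMatrix' (siegLin u (-w)), h1, h2⟩
  have hmv : ∀ v : Vec m F, (LinearMap.toMatrix' (siegLin u w)) *ᵥ v = siegLin u w v := by
    intro v
    rw [← Matrix.toLin'_apply, Matrix.toLin'_toMatrix']
  have hg : g ∈ Iso m F := by
    intro v _
    show QF m F ((LinearMap.toMatrix' (siegLin u w)) *ᵥ v) = QF m F v
    rw [hmv]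
    exact siegLin_isom u w hu huw v
  refine ⟨⟨g, hg⟩, ?_⟩
  intro v
  show (LinearMap.toMatrix' (siegLin u w)) *ᵥ v = _
  rw [hmv, siegLin_apply]

end Cfsg.Agent.Lib.Helper47.OOG
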